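import Cfsg.Agent.H999.IMON
import Cfsg.Agent.H326.Four.RowON
import Cfsg.Agent.H94.IMCLoc
import Cfsg.Agent.H210.On7.Loc
import Cfsg.Agent.H442.Imc.Pair

/-!
# S4526: the row of the O'Nan group (helper442)

`imc_on` : `IMC p S` for `S ≅ O'N` and every prime divisor `p` of its order.
-/

set_option autoImplicit false
set_option maxRecDepth 100000

namespace Cfsg.Agent.H442.Imc.ON

open Subgroup Cfsg
open Cfsg.Spor (ON)
open Cfsg.Agent.H625.SylConst Cfsg.Agent.H794.Imc
open Cfsg.Agent.H999.ONThreeHyp Cfsg.Agent.H999.ONIMThree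
open Cfsg.Agent.ONType.OddCent (XX LL)
open Cfsg.Agent.H665.NoPQ (HasDZ)
open Cfsg.Agent.Blocks.Basic

universe u

theorem mem_of_not_dvd {H : Type*} [Group H] [Finite H] (K : Subgroup H) [K.Normal] {p : ℕ} (hp : p.Prime)
    (h : ¬ p ∣ K.index) {g : H} {k : ℕ} (hg : orderOf g = p ^ k) : g ∈ K := by
  rw [← QuotientGroup.eq_one_iff, ← orderOf_eq_one_iff]
  have h1 : orderOf (QuotientGroup.mk g : H ⧸ K) ∣ p ^ k := hg ▸ orderOf_map_dvd (QuotientGroup.mk' K) g
  have h2 : orderOf (QuotientGroup.mk g : H ⧸ K) ∣ K.index := by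
    rw [Subgroup.index_eq_card]
    exact orderOf_dvd_natCard _
  have h3 : Nat.Coprime (p ^ k) K.index := Nat.Coprime.pow_left _ ((Nat.Prime.coprime_iff_not_dvd hp).2 h)
  exact Nat.dvd_one.1 (h3 ▸ Nat.dvd_gcd h1 h2)

theorem imc_three [Fact (Nat.Prime 3)] : IMC 3 ON := by
  have hfin := Cfsg.Agent.KFacts.ON.Cent.finite_ON
  have hn : (P.subgroupOf (XX P)).Normal := hyp.normal
  have hn' : (P.subgroupOf (centralizer (P : Set ON))).Normal := hyp.normal
  have hs := hyp.simple_LL
  have h1 : HasDZ 3 (LL P) := hasDZ_360 hyp.card_LL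
  obtain ⟨e, -⟩ := hyp.exists_equiv
  have e1 : LL P ≃* commutator (XX P) :=
    ((commutator (XX P)).equivMapOfInjective _ (XX P).subtype_injective).symm
  have h2 : HasDZ 3 (centralizer (P : Set ON) ⧸ P.subgroupOf (centralizer (P : Set ON))) :=
    Cfsg.Agent.H713.HasDZ.mulEquiv (e1.trans e) h1
  have hPC : P ≤ centralizer (P : Set ON) := hyp.P_le
  have h3P : (Nat.card P).factorization 3 = 2 := by
    rw [card_P, show (9 : ℕ) = 3 ^ 2 by norm_num, Nat.Prime.factorization_pow Nat.prime_three,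
      Finsupp.single_eq_same]
  obtain ⟨χ, hχ⟩ := h2
  have hq : Nat.card (centralizer (P : Set ON) ⧸ P.subgroupOf (centralizer (P : Set ON))) = 360 := by
    have h4 := Subgroup.card_eq_card_quotient_mul_card_subgroup (P.subgroupOf (centralizer (P : Set ON)))
    rw [card_centralizer, Nat.card_congr (subgroupOfEquivOfLe hPC).toEquiv, card_P] at h4
    omega
  have hq3 : (360 : ℕ).factorization 3 = 2 := by
    rw [show (360 : ℕ) = 3 ^ 2 * 40 by norm_num, Nat.factorization_mul (by norm_num) (by norm_num),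
      Nat.Prime.factorization_pow Nat.prime_three, Finsupp.add_apply, Finsupp.single_eq_same,
      Nat.factorization_eq_zero_of_not_dvd (by norm_num : ¬ 3 ∣ 40)]
  rw [hq, hq3] at hχ
  have hc3 : (3240 : ℕ).factorization 3 = 4 := by
    rw [show (3240 : ℕ) = 3 ^ 4 * 40 by norm_num, Nat.factorization_mul (by norm_num) (by norm_num),
      Nat.Prime.factorization_pow Nat.prime_three, Finsupp.add_apply, Finsupp.single_eq_same,
      Nat.factorization_eq_zero_of_not_dvd (by norm_num : ¬ 3 ∣ 40)]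
  refine imc_of_local P (IsPGroup.of_card (n := 2) (by rw [card_P]; norm_num)) ?_
    ⟨(χ : ↥(centralizer (P : Set ON)) ⧸ P.subgroupOf (centralizer (P : Set ON)) → ℂ) ∘ (QuotientGroup.mk' (P.subgroupOf (centralizer (P : Set ON)))),
      Cfsg.Agent.Characters.Core.isIrr_comp _ (QuotientGroup.mk'_surjective _) χ.2⟩ ?_ ?_
  · have h4 := P.card_mul_index
    rw [card_P, card_ON] at h4
    refine ⟨P.index / 3, ?_⟩
    omega
  · have h5 : charDegree ((χ : ↥(centralizer (P : Set ON)) ⧸ P.subgroupOf (centralizer (P : Set ON)) → ℂ) ∘ (QuotientGroup.mk' (P.subgroupOf (centralizer (P : Set ON))))) =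
        charDegree (χ : ↥(centralizer (P : Set ON)) ⧸ P.subgroupOf (centralizer (P : Set ON)) → ℂ) := by
      unfold charDegree
      rw [Function.comp_apply, map_one]
    show _ ≤ (charDegree ((χ : ↥(centralizer (P : Set ON)) ⧸ P.subgroupOf (centralizer (P : Set ON)) → ℂ) ∘ (QuotientGroup.mk' (P.subgroupOf
      (centralizer (P : Set ON)))))).factorization 3 + _
    rw [h5, hχ, inf_eq_left.2 hPC, h3P, card_centralizer, hc3]
  · rintro g hg ⟨k, hk⟩
    apply Subgroup.mem_sup_right
    have hle : centralizer (P : Set ON) ≤ normalizer (P : Set ON) := centralizer_le_normalizer _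
    have hnn : ((centralizer (P : Set ON)).subgroupOf (normalizer (P : Set ON))).Normal := inferInstance
    have h6 := mem_of_not_dvd ((centralizer (P : Set ON)).subgroupOf (normalizer (P : Set ON))) Nat.prime_three
      not_dvd (g := ⟨g, hg⟩) (k := k) (by rw [Subgroup.orderOf_mk]; exact hk)
    exact mem_subgroupOf.1 h6

theorem imc_seven [Fact (Nat.Prime 7)] : IMC 7 ON := by
  have hfin := Cfsg.Agent.KFacts.ON.Cent.finite_ON
  obtain ⟨χ, hχ⟩ := Cfsg.Agent.H210.On7.exists_charDegree
  refine IMC.of_defect_zero (by rw [card_ON]; norm_num) χ ?_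
  have h1 : (460815505920 : ℕ).factorization 7 = 3 := by
    rw [show (460815505920 : ℕ) = 7 ^ 3 * 1343485440 by norm_num, Nat.factorization_mul (by norm_num) (by norm_num),
      Nat.Prime.factorization_pow (by norm_num), Finsupp.add_apply, Finsupp.single_eq_same,
      Nat.factorization_eq_zero_of_not_dvd (by norm_num : ¬ 7 ∣ 1343485440)]
  rw [hχ, card_ON, h1]
  norm_num

theorem imc_model {p : ℕ} [hp : Fact p.Prime] (hd : p ∣ Nat.card ON) : IMC p ON := by
  have hfin := Cfsg.Agent.KFacts.ON.Cent.finite_ON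
  have hd0 := hd
  rw [card_ON] at hd
  rcases Cfsg.Agent.H999.IMON.cases hp.out hd with rfl | rfl | rfl | rfl | rfl | rfl | rfl
  · exact Cfsg.Agent.H94.IMCLoc.imc_two_of_loc Cfsg.Agent.H326.Four.RowON.loc_model
  · exact imc_three
  · exact imc_of_exact hd0 (by rw [card_ON]; norm_num) (Cfsg.Agent.H999.IMON.IM_ON hd)
  · exact imc_seven
  · exact imc_of_exact hd0 (by rw [card_ON]; norm_num) (Cfsg.Agent.H999.IMON.IM_ON hd)
  · exact imc_of_exact hd0 (by rw [card_ON]; norm_num) (Cfsg.Agent.H999.IMON.IM_ON hd)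
  · exact imc_of_exact hd0 (by rw [card_ON]; norm_num) (Cfsg.Agent.H999.IMON.IM_ON hd)

/-- **The O'Nan group has, for each prime divisor `p` of its order, an irreducible character of degree
divisible by `p` with a vector fixed by a Sylow `p`-subgroup.** -/
theorem imc_on {S : Type u} [Group S] [Finite S] (h : Cfsg.Spor.IsoON S) {p : ℕ} [hp : Fact p.Prime]
    (hd : p ∣ Nat.card S) : Cfsg.Agent.H625.SylConst.IMC p S := by
  obtain ⟨e⟩ := h
  rw [Nat.card_congr e.toEquiv] at hd
  exact IMC.of_equiv e (imc_model hd)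

end Cfsg.Agent.H442.Imc.ON
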